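import Mathlib.RingTheory.PowerSeries.Order
import Mathlib.RingTheory.PowerSeries.Inverse
import Mathlib.LinearAlgebra.Dimension.Constructions
import Mathlib.LinearAlgebra.Dimension.Finite
import Mathlib.LinearAlgebra.Isomorphisms
import Mathlib.RingTheory.Finiteness.Basic
import Mathlib.LinearAlgebra.FiniteDimensional.Lemmas
import Mathlib.LinearAlgebra.Pi
import Mathlib.Algebra.Algebra.Pi

/-! # Ideals of a subring of finite codimension in a product of power series rings -/

set_option autoImplicit false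

noncomputable section

namespace Groth.Agent.HZLib29

universe u

variable {k : Type u} [Field k] {s : ℕ}


theorem le_order_iff_dvd {n : ℕ} {f : PowerSeries k} :
    (n : ℕ∞) ≤ f.order ↔ PowerSeries.X ^ n ∣ f := by
  rw [PowerSeries.X_pow_dvd_iff]
  refine ⟨fun h i hi => PowerSeries.coeff_of_lt_order i (lt_of_lt_of_le (by exact_mod_cast hi) h),
    fun h => PowerSeries.nat_le_order f n h⟩

/-- `F^a` -/
def filt (a : Fin s → ℕ) : Submodule k (Fin s → PowerSeries k) where
  carrier := {f | ∀ i, PowerSeries.X ^ a i ∣ f i}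
  zero_mem' := fun i => dvd_zero _
  add_mem' := fun {f g} hf hg i => dvd_add (hf i) (hg i)
  smul_mem' := fun c f hf i => by
    show PowerSeries.X ^ a i ∣ c • f i
    rw [PowerSeries.smul_eq_C_mul]
    exact dvd_mul_of_dvd_right (hf i) _

theorem mem_filt {a : Fin s → ℕ} {f : (Fin s → PowerSeries k)} : f ∈ filt (k := k) a ↔ ∀ i, (a i : ℕ∞) ≤ (f i).order :=
  forall_congr' fun _ => le_order_iff_dvd.symm

/-- coefficients below `a` -/
def coeffs (a : Fin s → ℕ) : (Fin s → PowerSeries k) →ₗ[k] ((i : Fin s) → Fin (a i) → k) :=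
  LinearMap.pi fun i => (LinearMap.pi fun j : Fin (a i) => PowerSeries.coeff (R := k) (j : ℕ)).comp (LinearMap.proj i)

theorem coeffs_surjective (a : Fin s → ℕ) : Function.Surjective (coeffs (k := k) a) := fun v => by
  refine ⟨fun i => PowerSeries.mk fun n => if h : n < a i then v i ⟨n, h⟩ else 0, ?_⟩
  funext i j
  simp [coeffs, j.isLt]

theorem ker_coeffs (a : Fin s → ℕ) : LinearMap.ker (coeffs (k := k) a) = filt a := by
  ext f
  simp only [LinearMap.mem_ker, funext_iff, coeffs, LinearMap.pi_apply, LinearMap.comp_apply,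
    LinearMap.proj_apply, Pi.zero_apply]
  exact ⟨fun h i => PowerSeries.X_pow_dvd_iff.2 fun n hn => h i ⟨n, hn⟩,
    fun h i j => PowerSeries.X_pow_dvd_iff.1 (h i) j j.isLt⟩

theorem finite_quot_filt (a : Fin s → ℕ) : Module.Finite k ((Fin s → PowerSeries k) ⧸ filt (k := k) a) :=
  Module.Finite.equiv ((Submodule.quotEquivOfEq _ _ (ker_coeffs a).symm).trans
    ((coeffs a).quotKerEquivOfSurjective (coeffs_surjective a))).symm

theorem finrank_quot_filt (a : Fin s → ℕ) : Module.finrank k ((Fin s → PowerSeries k) ⧸ filt (k := k) a) = ∑ i, a i := by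
  rw [LinearEquiv.finrank_eq ((Submodule.quotEquivOfEq _ _ (ker_coeffs a).symm).trans
    ((coeffs a).quotKerEquivOfSurjective (coeffs_surjective a))), Module.finrank_pi_fintype]
  simp

variable (R : Subalgebra k (Fin s → PowerSeries k))

/-- the image of an ideal in the product -/
def img (I : Ideal ↥R) : Submodule k (Fin s → PowerSeries k) := (I.restrictScalars k).map R.val.toLinearMap

theorem mem_img {I : Ideal ↥R} {f : (Fin s → PowerSeries k)} : f ∈ img R I ↔ ∃ h : f ∈ R, (⟨f, h⟩ : ↥R) ∈ I :=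
  ⟨fun ⟨⟨x, hx⟩, hmem, he⟩ => by cases he; exact ⟨hx, hmem⟩, fun ⟨h, hmem⟩ => ⟨⟨f, h⟩, hmem, rfl⟩⟩

theorem img_le (I : Ideal ↥R) : img R I ≤ Subalgebra.toSubmodule R := fun _ hf => (mem_img R |>.1 hf).1

/-- the colength in the product is the colength in `R` plus `δ` -/
theorem finite_and_finrank_quot_img [Module.Finite k ((Fin s → PowerSeries k) ⧸ Subalgebra.toSubmodule R)] (I : Ideal ↥R)
    [Module.Finite k (↥R ⧸ I)] :
    Module.Finite k ((Fin s → PowerSeries k) ⧸ img R I) ∧ Module.finrank k ((Fin s → PowerSeries k) ⧸ img R I) =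
      Module.finrank k (↥R ⧸ I) + Module.finrank k ((Fin s → PowerSeries k) ⧸ Subalgebra.toSubmodule R) := by
  let e : (↥R ⧸ I) ≃ₗ[k] (↥R ⧸ I.restrictScalars k) := (Submodule.Quotient.restrictScalarsEquiv k I).symm
  let j : (↥R ⧸ I.restrictScalars k) →ₗ[k] ((Fin s → PowerSeries k) ⧸ img R I) :=
    Submodule.mapQ _ _ R.val.toLinearMap fun x hx => ⟨x, hx, rfl⟩
  let q : ((Fin s → PowerSeries k) ⧸ img R I) →ₗ[k] ((Fin s → PowerSeries k) ⧸ Subalgebra.toSubmodule R) :=
    Submodule.mapQ _ _ LinearMap.id (by simpa using img_le R I)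
  have hj : Function.Injective j := by
    refine (injective_iff_map_eq_zero j).2 fun x hx => ?_
    obtain ⟨x, rfl⟩ := Submodule.Quotient.mk_surjective _ x
    rw [Submodule.mapQ_apply, Submodule.Quotient.mk_eq_zero] at hx
    obtain ⟨y, hy, hxy⟩ := hx
    rw [Submodule.Quotient.mk_eq_zero]
    have : y = x := Subtype.ext hxy
    exact this ▸ hy
  have hq : Function.Surjective q := fun y => by
    obtain ⟨y, rfl⟩ := Submodule.Quotient.mk_surjective _ y
    exact ⟨Submodule.Quotient.mk y, rfl⟩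
  have hker : LinearMap.ker q = LinearMap.range j := by
    ext y
    obtain ⟨y, rfl⟩ := Submodule.Quotient.mk_surjective _ y
    rw [LinearMap.mem_ker, Submodule.mapQ_apply, LinearMap.id_apply, Submodule.Quotient.mk_eq_zero]
    constructor
    · intro hy
      exact ⟨Submodule.Quotient.mk ⟨y, hy⟩, rfl⟩
    · rintro ⟨x, hx⟩
      obtain ⟨⟨x, hxR⟩, rfl⟩ := Submodule.Quotient.mk_surjective _ x
      rw [Submodule.mapQ_apply, Submodule.Quotient.eq] at hx
      have := sub_mem (show x ∈ Subalgebra.toSubmodule R from hxR) (img_le R I hx)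
      simpa using this
  haveI : Module.Finite k (↥R ⧸ I.restrictScalars k) := Module.Finite.equiv e
  haveI h1 : Module.Finite k ↥(LinearMap.ker q) := hker ▸ Module.Finite.range j
  haveI h2 : Module.Finite k ↥(LinearMap.range q) := by
    rw [LinearMap.range_eq_top.2 hq]; infer_instance
  haveI : Module.Finite k ((Fin s → PowerSeries k) ⧸ img R I) := by
    refine ⟨Submodule.fg_of_fg_map_of_fg_inf_ker q ?_ ?_⟩
    · rw [Submodule.map_top]; exact Module.Finite.iff_fg.1 h2
    · rw [top_inf_eq]; exact Module.Finite.iff_fg.1 h1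
  refine ⟨inferInstance, ?_⟩
  have h := LinearMap.finrank_range_add_finrank_ker q
  rw [hker, LinearMap.finrank_range_of_inj hj, LinearMap.range_eq_top.2 hq, finrank_top, ← e.finrank_eq] at h
  omega

variable (c : Fin s → ℕ)
  (hc : ∀ f : (Fin s → PowerSeries k), (∀ g : (Fin s → PowerSeries k), g * f ∈ R) ↔ ∀ i, ((c i : ℕ) : ℕ∞) ≤ (f i).order)

include hc

theorem mem_of_le_order {f : (Fin s → PowerSeries k)} (hf : ∀ i, (c i : ℕ∞) ≤ (f i).order) : f ∈ R := by
  simpa using (hc f).2 hf 1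

theorem single_mem {i : Fin s} {h : PowerSeries k} (hh : (c i : ℕ∞) ≤ h.order) : (Pi.single i h : Fin s → PowerSeries k) ∈ R :=
  mem_of_le_order R c hc fun j => by
    rcases eq_or_ne j i with rfl | hne
    · simpa using hh
    · simp [Pi.single_eq_of_ne hne]

/-- the shift by the conductor -/
theorem mem_img_of_le_order (I : Ideal ↥R) (l : Fin s → ℕ)
    (hl : ∀ i : Fin s, ∃ f ∈ I, ((f : (Fin s → PowerSeries k)) i).order = ((l i : ℕ) : ℕ∞))
    {g : (Fin s → PowerSeries k)} (hg : ∀ i, ((l i + c i : ℕ) : ℕ∞) ≤ (g i).order) : g ∈ img R I := by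
  classical
  rw [show g = ∑ i, Pi.single i (g i) from (Finset.univ_sum_single g).symm]
  refine Submodule.sum_mem _ fun i _ => ?_
  obtain ⟨f, hfI, hf⟩ := hl i
  obtain ⟨v, hv⟩ := le_order_iff_dvd.1 hf.ge
  have hv0 : PowerSeries.constantCoeff v ≠ 0 := fun h0 => by
    obtain ⟨v', rfl⟩ := PowerSeries.X_dvd_iff.2 h0
    have : ((l i + 1 : ℕ) : ℕ∞) ≤ ((f : (Fin s → PowerSeries k)) i).order :=
      le_order_iff_dvd.2 ⟨v', by rw [hv, pow_succ]; ring⟩
    rw [hf] at this
    exact absurd (by exact_mod_cast this : l i + 1 ≤ l i) (by omega)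
  obtain ⟨w, hw⟩ := le_order_iff_dvd.1 (hg i)
  obtain ⟨vi, hvi⟩ := (PowerSeries.isUnit_iff_constantCoeff.2 (isUnit_iff_ne_zero.2 hv0)).exists_right_inv
  have hh : (c i : ℕ∞) ≤ (PowerSeries.X ^ c i * w * vi).order :=
    le_order_iff_dvd.2 ((dvd_mul_right _ w).mul_right vi)
  refine (mem_img R).2 ?_
  have e : ((f * ⟨_, single_mem R c hc hh⟩ : ↥R) : (Fin s → PowerSeries k)) = Pi.single i (g i) := by
    show (f : (Fin s → PowerSeries k)) * Pi.single i (PowerSeries.X ^ c i * w * vi) = _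
    funext j
    rcases eq_or_ne j i with hji | hne
    swap
    · simp [Pi.single_eq_of_ne hne]
    subst j
    rw [Pi.mul_apply, Pi.single_eq_same, Pi.single_eq_same]
    calc (f : (Fin s → PowerSeries k)) i * (PowerSeries.X ^ c i * w * vi) = PowerSeries.X ^ (l i + c i) * w * (v * vi) := by
          rw [hv, pow_add]; ring
      _ = g i := by rw [hvi, mul_one, ← hw]
  exact ⟨e ▸ (f * ⟨_, single_mem R c hc hh⟩ : ↥R).2,
    by rw [show (⟨Pi.single i (g i), _⟩ : ↥R) = f * ⟨_, single_mem R c hc hh⟩ from Subtype.ext e.symm]; exact I.mul_mem_right _ hfI⟩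

omit hc in
theorem le_order_of_branch (I : Ideal ↥R) (a : Fin s → ℕ)
    (ha : ∀ i : Fin s, Ideal.map ((Pi.evalAlgHom k (fun _ : Fin s => PowerSeries k) i).comp R.val) I =
      Ideal.span {PowerSeries.X ^ (a i)}) :
    (∀ f ∈ I, ∀ i, (a i : ℕ∞) ≤ ((f : (Fin s → PowerSeries k)) i).order) ∧
      ∀ i : Fin s, ∃ f ∈ I, ((f : (Fin s → PowerSeries k)) i).order = ((a i : ℕ) : ℕ∞) := by
  have h1 : ∀ f ∈ I, ∀ i, (a i : ℕ∞) ≤ ((f : (Fin s → PowerSeries k)) i).order := fun f hf i => by
    have := Ideal.mem_map_of_mem ((Pi.evalAlgHom k (fun _ : Fin s => PowerSeries k) i).comp R.val) hf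
    rw [ha i, Ideal.mem_span_singleton] at this
    exact le_order_iff_dvd.2 this
  refine ⟨h1, fun i => ?_⟩
  by_contra hne
  push Not at hne
  have hle : Ideal.map ((Pi.evalAlgHom k (fun _ : Fin s => PowerSeries k) i).comp R.val) I ≤
      Ideal.span {PowerSeries.X ^ (a i + 1)} := by
    rw [Ideal.map_le_iff_le_comap]
    intro f hf
    show (f : (Fin s → PowerSeries k)) i ∈ Ideal.span {PowerSeries.X ^ (a i + 1)}
    rw [Ideal.mem_span_singleton, ← le_order_iff_dvd]
    have h2 := lt_of_le_of_ne (h1 f hf i) (Ne.symm (hne f hf))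
    exact_mod_cast Order.add_one_le_of_lt h2
  rw [ha i, Ideal.span_singleton_le_span_singleton] at hle
  have := (pow_dvd_pow_iff (PowerSeries.X_ne_zero (R := k)) (fun hu => by
    simpa using PowerSeries.isUnit_constantCoeff _ hu)).1 hle
  omega

theorem colength_bounds [Module.Finite k ((Fin s → PowerSeries k) ⧸ Subalgebra.toSubmodule R)]
    (I : Ideal ↥R) [Module.Finite k (↥R ⧸ I)] (a : Fin s → ℕ)
    (ha : ∀ i : Fin s, Ideal.map ((Pi.evalAlgHom k (fun _ : Fin s => PowerSeries k) i).comp R.val) I =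
      Ideal.span {PowerSeries.X ^ (a i)}) :
    (∑ i, a i) ≤ Module.finrank k (↥R ⧸ I) + Module.finrank k ((Fin s → PowerSeries k) ⧸ Subalgebra.toSubmodule R) ∧
    Module.finrank k (↥R ⧸ I) + Module.finrank k ((Fin s → PowerSeries k) ⧸ Subalgebra.toSubmodule R) ≤ (∑ i, a i) + ∑ i, c i ∧
    (R ≠ ⊤ → Module.finrank k (↥R ⧸ I) + Module.finrank k ((Fin s → PowerSeries k) ⧸ Subalgebra.toSubmodule R) < (∑ i, a i) + ∑ i, c i) := by
  obtain ⟨h1, h2⟩ := le_order_of_branch R I a ha
  obtain ⟨hfin, hrk⟩ := finite_and_finrank_quot_img R I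
  have hlow : img R I ≤ filt a := fun f hf => by
    obtain ⟨hR, hmem⟩ := (mem_img R).1 hf
    exact mem_filt.2 fun i => h1 _ hmem i
  have hup : filt (fun i => a i + c i) ≤ img R I := fun f hf =>
    mem_img_of_le_order R c hc I a h2 (mem_filt.1 hf)
  rw [← hrk]
  haveI := finite_quot_filt (k := k) a
  haveI := finite_quot_filt (k := k) (fun i => a i + c i)
  let q₁ : ((Fin s → PowerSeries k) ⧸ img R I) →ₗ[k] ((Fin s → PowerSeries k) ⧸ filt (k := k) a) :=
    Submodule.mapQ _ _ LinearMap.id (by simpa using hlow)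
  let q₂ : ((Fin s → PowerSeries k) ⧸ filt (k := k) (fun i => a i + c i)) →ₗ[k] ((Fin s → PowerSeries k) ⧸ img R I) :=
    Submodule.mapQ _ _ LinearMap.id (by simpa using hup)
  have hs₁ : Function.Surjective q₁ := fun y => by
    obtain ⟨y, rfl⟩ := Submodule.Quotient.mk_surjective _ y; exact ⟨Submodule.Quotient.mk y, rfl⟩
  have hs₂ : Function.Surjective q₂ := fun y => by
    obtain ⟨y, rfl⟩ := Submodule.Quotient.mk_surjective _ y; exact ⟨Submodule.Quotient.mk y, rfl⟩
  have l1 := LinearMap.finrank_le_finrank_of_surjective hs₁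
  have l2 := LinearMap.finrank_le_finrank_of_surjective hs₂
  rw [finrank_quot_filt] at l1 l2
  rw [Finset.sum_add_distrib] at l2
  refine ⟨l1, l2, fun hne => lt_of_le_of_ne l2 fun he => ?_⟩
  have hinj : Function.Injective q₂ :=
    (LinearMap.injective_iff_surjective_of_finrank_eq_finrank (by
      rw [finrank_quot_filt, Finset.sum_add_distrib, he])).2 hs₂
  obtain ⟨i, hi⟩ : ∃ i, 0 < c i := by
    by_contra h0
    push Not at h0
    refine hne (Algebra.eq_top_iff.2 fun g => ?_)
    simpa using (hc 1).2 (fun i => by simp [Nat.le_zero.1 (h0 i)]) g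
  obtain ⟨f, hfI, hf⟩ := h2 i
  have hfimg : (f : (Fin s → PowerSeries k)) ∈ img R I := (mem_img R).2 ⟨f.2, hfI⟩
  have : (Submodule.Quotient.mk (f : (Fin s → PowerSeries k)) : (Fin s → PowerSeries k) ⧸ filt (k := k) (fun i => a i + c i)) = 0 :=
    hinj (by rw [map_zero, Submodule.mapQ_apply, LinearMap.id_apply, Submodule.Quotient.mk_eq_zero]; exact hfimg)
  rw [Submodule.Quotient.mk_eq_zero, mem_filt] at this
  have h3 := this i
  rw [hf] at h3
  have : a i + c i ≤ a i := by exact_mod_cast h3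
  omega

section Shift

variable (j : Fin s)

omit hc in
/-- multiplication by the uniformizer on branch `j` -/
theorem finrank_quot_map_mulSingle (V : Submodule k (Fin s → PowerSeries k))
    [Module.Finite k ((Fin s → PowerSeries k) ⧸ V)] :
    Module.Finite k ((Fin s → PowerSeries k) ⧸ V.map (LinearMap.mulLeft k (Pi.mulSingle j PowerSeries.X : Fin s → PowerSeries k))) ∧
    Module.finrank k ((Fin s → PowerSeries k) ⧸ V.map (LinearMap.mulLeft k (Pi.mulSingle j PowerSeries.X : Fin s → PowerSeries k))) =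
      Module.finrank k ((Fin s → PowerSeries k) ⧸ V) + 1 := by
  classical
  set m := LinearMap.mulLeft k (Pi.mulSingle j PowerSeries.X : Fin s → PowerSeries k) with hm
  have hminj : Function.Injective m := fun f g hfg => by
    funext i
    have := congrFun hfg i
    simp only [hm, LinearMap.mulLeft_apply, Pi.mul_apply] at this
    rcases eq_or_ne i j with rfl | hne
    · simpa [PowerSeries.X_ne_zero] using this
    · simpa [Pi.mulSingle_eq_of_ne hne] using this
  let ev : ((Fin s → PowerSeries k) ⧸ V.map m) →ₗ[k] k :=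
    Submodule.liftQ _ ((PowerSeries.coeff (R := k) 0).comp (LinearMap.proj j)) (by
      rintro _ ⟨v, _, rfl⟩
      simp [hm])
  let jm : ((Fin s → PowerSeries k) ⧸ V) →ₗ[k] ((Fin s → PowerSeries k) ⧸ V.map m) :=
    Submodule.mapQ _ _ m fun x hx => Submodule.mem_map_of_mem hx
  have hjinj : Function.Injective jm := by
    refine (injective_iff_map_eq_zero jm).2 fun x hx => ?_
    obtain ⟨x, rfl⟩ := Submodule.Quotient.mk_surjective _ x
    rw [Submodule.mapQ_apply, Submodule.Quotient.mk_eq_zero] at hx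
    obtain ⟨y, hy, hxy⟩ := hx
    rw [Submodule.Quotient.mk_eq_zero, ← hminj hxy]
    exact hy
  have hev : Function.Surjective ev := fun t =>
    ⟨Submodule.Quotient.mk (Pi.single j (PowerSeries.C t)), by simp [ev]⟩
  have hker : LinearMap.ker ev = LinearMap.range jm := by
    ext y
    obtain ⟨y, rfl⟩ := Submodule.Quotient.mk_surjective _ y
    constructor
    · intro hy
      simp only [LinearMap.mem_ker, ev, Submodule.liftQ_apply, LinearMap.comp_apply, LinearMap.proj_apply,
        PowerSeries.coeff_zero_eq_constantCoeff] at hy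
      obtain ⟨w, hw⟩ := PowerSeries.X_dvd_iff.2 hy
      refine ⟨Submodule.Quotient.mk (Function.update y j w), ?_⟩
      rw [Submodule.mapQ_apply]
      congr 1
      funext i
      simp only [hm, LinearMap.mulLeft_apply, Pi.mul_apply]
      rcases eq_or_ne i j with rfl | hne
      · simp [hw]
      · simp [Pi.mulSingle_eq_of_ne hne, Function.update_of_ne hne]
    · rintro ⟨x, hx⟩
      obtain ⟨x, rfl⟩ := Submodule.Quotient.mk_surjective _ x
      rw [← hx, LinearMap.mem_ker, Submodule.mapQ_apply]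
      simp [ev, hm]
  haveI h1 : Module.Finite k ↥(LinearMap.ker ev) := hker ▸ Module.Finite.range jm
  haveI : Module.Finite k ((Fin s → PowerSeries k) ⧸ V.map m) := by
    refine ⟨Submodule.fg_of_fg_map_of_fg_inf_ker ev ?_ ?_⟩
    · rw [Submodule.map_top, LinearMap.range_eq_top.2 hev]; exact Module.Finite.fg_top
    · rw [top_inf_eq]; exact Module.Finite.iff_fg.1 h1
  refine ⟨inferInstance, ?_⟩
  have h := LinearMap.finrank_range_add_finrank_ker ev
  rw [hker, LinearMap.finrank_range_of_inj hjinj, LinearMap.range_eq_top.2 hev, finrank_top,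
    Module.finrank_self] at h
  omega

omit hc in
theorem map_branch_eq (I : Ideal ↥R) (a : Fin s → ℕ)
    (h1 : ∀ f ∈ I, ∀ i, (a i : ℕ∞) ≤ ((f : Fin s → PowerSeries k) i).order)
    (h2 : ∀ i, ∃ f ∈ I, ((f : Fin s → PowerSeries k) i).order = ((a i : ℕ) : ℕ∞)) (i : Fin s) :
    Ideal.map ((Pi.evalAlgHom k (fun _ : Fin s => PowerSeries k) i).comp R.val) I =
      Ideal.span {PowerSeries.X ^ (a i)} := by
  refine le_antisymm (Ideal.map_le_iff_le_comap.2 fun f hf => ?_) ?_
  · show (f : Fin s → PowerSeries k) i ∈ Ideal.span {PowerSeries.X ^ (a i)}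
    rw [Ideal.mem_span_singleton, ← le_order_iff_dvd]
    exact h1 f hf i
  · rw [Ideal.span_le, Set.singleton_subset_iff]
    obtain ⟨f, hfI, hf⟩ := h2 i
    obtain ⟨v, hv⟩ := le_order_iff_dvd.1 hf.ge
    have hv0 : IsUnit v := by
      rw [PowerSeries.isUnit_iff_constantCoeff, isUnit_iff_ne_zero]
      intro h0
      obtain ⟨v', rfl⟩ := PowerSeries.X_dvd_iff.2 h0
      have : ((a i + 1 : ℕ) : ℕ∞) ≤ ((f : Fin s → PowerSeries k) i).order :=
        le_order_iff_dvd.2 ⟨v', by rw [hv, pow_succ]; ring⟩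
      rw [hf] at this
      exact absurd (by exact_mod_cast this : a i + 1 ≤ a i) (by omega)
    have := Ideal.mem_map_of_mem ((Pi.evalAlgHom k (fun _ : Fin s => PowerSeries k) i).comp R.val) hfI
    rw [show ((Pi.evalAlgHom k (fun _ : Fin s => PowerSeries k) i).comp R.val) f = PowerSeries.X ^ a i * v from hv,
      Ideal.mul_unit_mem_iff_mem _ hv0] at this
    exact this

theorem shift_bijection [Module.Finite k ((Fin s → PowerSeries k) ⧸ Subalgebra.toSubmodule R)]
    (d : ℕ) (a : Fin s → ℕ) (hj : c j ≤ a j) :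
    (∀ I ∈ {I : Ideal ↥R | Module.Finite k (↥R ⧸ I) ∧ Module.finrank k (↥R ⧸ I) = d ∧ (∀ i : Fin s, Ideal.map ((Pi.evalAlgHom k (fun _ : Fin s => PowerSeries k) i).comp R.val) I = Ideal.span {PowerSeries.X ^ (a i)})},
      ∃ J ∈ {I : Ideal ↥R | Module.Finite k (↥R ⧸ I) ∧ Module.finrank k (↥R ⧸ I) = d + 1 ∧ (∀ i : Fin s, Ideal.map ((Pi.evalAlgHom k (fun _ : Fin s => PowerSeries k) i).comp R.val) I = Ideal.span {PowerSeries.X ^ ((Function.update a j (a j + 1)) i)})},
        (Subtype.val '' (J : Set ↥R)) = (fun f => Pi.mulSingle j PowerSeries.X * f) '' (Subtype.val '' (I : Set ↥R))) ∧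
    (∀ J ∈ {I : Ideal ↥R | Module.Finite k (↥R ⧸ I) ∧ Module.finrank k (↥R ⧸ I) = d + 1 ∧ (∀ i : Fin s, Ideal.map ((Pi.evalAlgHom k (fun _ : Fin s => PowerSeries k) i).comp R.val) I = Ideal.span {PowerSeries.X ^ ((Function.update a j (a j + 1)) i)})},
      ∃ I ∈ {I : Ideal ↥R | Module.Finite k (↥R ⧸ I) ∧ Module.finrank k (↥R ⧸ I) = d ∧ (∀ i : Fin s, Ideal.map ((Pi.evalAlgHom k (fun _ : Fin s => PowerSeries k) i).comp R.val) I = Ideal.span {PowerSeries.X ^ (a i)})},
        (Subtype.val '' (J : Set ↥R)) = (fun f => Pi.mulSingle j PowerSeries.X * f) '' (Subtype.val '' (I : Set ↥R))) := by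
  classical
  set ξ : Fin s → PowerSeries k := Pi.mulSingle j PowerSeries.X with hξ
  have hξne : ∀ i, ξ i ≠ 0 := fun i => by
    rcases eq_or_ne i j with rfl | hne
    · simp [hξ, PowerSeries.X_ne_zero]
    · simp [hξ, Pi.mulSingle_eq_of_ne hne]
  have hord : ∀ (f : PowerSeries k) (i : Fin s) (n : ℕ),
      (((Function.update a j (a j + 1)) i : ℕ) : ℕ∞) ≤ (ξ i * f).order ↔ (a i : ℕ∞) ≤ f.order := by
    intro f i n
    rw [le_order_iff_dvd, le_order_iff_dvd]
    rcases eq_or_ne i j with rfl | hne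
    · simp only [hξ, Function.update_self, Pi.mulSingle_eq_same, pow_succ']
      exact mul_dvd_mul_iff_left PowerSeries.X_ne_zero
    · simp [hξ, Pi.mulSingle_eq_of_ne hne, Function.update_of_ne hne]
  have hdiff : ∀ g : Fin s → PowerSeries k, (a j : ℕ∞) ≤ (g j).order → g - ξ * g ∈ R := by
    intro g hg
    refine mem_of_le_order R c hc fun i => ?_
    rcases eq_or_ne i j with rfl | hne
    · have : (g - ξ * g) i = (1 - PowerSeries.X) * g i := by simp [hξ]; ring
      rw [this, le_order_iff_dvd]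
      exact ((pow_dvd_pow PowerSeries.X hj).trans (le_order_iff_dvd.1 hg)).mul_left _
    · simp [hξ, Pi.mulSingle_eq_of_ne hne]
  refine ⟨?_, ?_⟩
  · rintro I ⟨hfinI, hd, ha⟩
    obtain ⟨h1, h2⟩ := le_order_of_branch R I a ha
    have hmem : ∀ f ∈ I, ξ * (f : Fin s → PowerSeries k) ∈ R := fun f hf => by
      have := sub_mem f.2 (hdiff _ (h1 f hf j))
      rwa [sub_sub_cancel] at this
    let J : Ideal ↥R :=
      { carrier := {x | ∃ f ∈ I, (x : Fin s → PowerSeries k) = ξ * f}
        zero_mem' := ⟨0, I.zero_mem, by simp⟩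
        add_mem' := by
          rintro x y ⟨f, hf, hfx⟩ ⟨g, hg, hgy⟩
          exact ⟨f + g, I.add_mem hf hg, by simp [hfx, hgy, mul_add]⟩
        smul_mem' := by
          rintro r x ⟨f, hf, hfx⟩
          exact ⟨r * f, I.mul_mem_left r hf, by simp [hfx]; ring⟩ }
    have himg : img R J = (img R I).map (LinearMap.mulLeft k ξ) := by
      ext x
      rw [mem_img, Submodule.mem_map]
      constructor
      · rintro ⟨hx, f, hf, he⟩
        exact ⟨f, (mem_img R).2 ⟨f.2, hf⟩, he.symm⟩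
      · rintro ⟨f, hf, rfl⟩
        obtain ⟨hfR, hfI⟩ := (mem_img R).1 hf
        exact ⟨hmem _ hfI, _, hfI, rfl⟩
    obtain ⟨hfV, hrkV⟩ := finite_and_finrank_quot_img R I
    obtain ⟨hfW, hrkW⟩ := finrank_quot_map_mulSingle j (img R I)
    have hJfin : Module.Finite k (↥R ⧸ J) := by
      haveI : Module.Finite k ((Fin s → PowerSeries k) ⧸ img R J) := by rw [himg]; exact hfW
      let e : (↥R ⧸ J) ≃ₗ[k] (↥R ⧸ J.restrictScalars k) := (Submodule.Quotient.restrictScalarsEquiv k J).symm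
      let jj : (↥R ⧸ J.restrictScalars k) →ₗ[k] ((Fin s → PowerSeries k) ⧸ img R J) :=
        Submodule.mapQ _ _ R.val.toLinearMap fun x hx => ⟨x, hx, rfl⟩
      refine Module.Finite.of_injective (jj.comp e.toLinearMap) (((injective_iff_map_eq_zero jj).2 ?_).comp e.injective)
      intro x hx
      obtain ⟨x, rfl⟩ := Submodule.Quotient.mk_surjective _ x
      rw [Submodule.mapQ_apply, Submodule.Quotient.mk_eq_zero] at hx
      obtain ⟨y, hy, hxy⟩ := hx
      rw [Submodule.Quotient.mk_eq_zero]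
      exact (Subtype.ext hxy : y = x) ▸ hy
    refine ⟨J, ⟨hJfin, ?_, map_branch_eq R J _ ?_ ?_⟩, ?_⟩
    · obtain ⟨-, hrkJ⟩ := finite_and_finrank_quot_img R J
      rw [himg, hrkW, hrkV, hd] at hrkJ
      omega
    · rintro x ⟨f, hf, hx⟩ i
      rw [hx, Pi.mul_apply]
      exact (hord _ i 0).2 (h1 f hf i)
    · intro i
      obtain ⟨f, hf, hfo⟩ := h2 i
      refine ⟨⟨ξ * f, hmem f hf⟩, ⟨f, hf, rfl⟩, ?_⟩
      show (ξ i * (f : Fin s → PowerSeries k) i).order = _
      rw [PowerSeries.order_mul, hfo]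
      rcases eq_or_ne i j with rfl | hne
      · simp [hξ, PowerSeries.order_X, add_comm]
      · simp [hξ, Pi.mulSingle_eq_of_ne hne, Function.update_of_ne hne]
    · ext x
      constructor
      · rintro ⟨x, ⟨f, hf, he⟩, rfl⟩
        exact ⟨f, ⟨f, hf, rfl⟩, he.symm⟩
      · rintro ⟨_, ⟨f, hf, rfl⟩, rfl⟩
        exact ⟨⟨_, hmem f hf⟩, ⟨f, hf, rfl⟩, rfl⟩
  · rintro J ⟨hfinJ, hd, ha⟩
    obtain ⟨h1, h2⟩ := le_order_of_branch R J _ ha
    have hgR : ∀ g : Fin s → PowerSeries k, (∃ h : ξ * g ∈ R, (⟨_, h⟩ : ↥R) ∈ J) → g ∈ R := by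
      rintro g ⟨h, hJ⟩
      have hg : (a j : ℕ∞) ≤ (g j).order := (hord _ j 0).1 (h1 _ hJ j)
      have := add_mem (hdiff g hg) h
      rwa [sub_add_cancel] at this
    have hdvd : ∀ x ∈ J, ∃ g : Fin s → PowerSeries k, (x : Fin s → PowerSeries k) = ξ * g := by
      intro x hx
      have hj1 := le_order_iff_dvd.1 (h1 x hx j)
      rw [Function.update_self] at hj1
      obtain ⟨w, hw⟩ := (dvd_pow_self (PowerSeries.X (R := k)) (Nat.succ_ne_zero (a j))).trans hj1
      refine ⟨Function.update (x : Fin s → PowerSeries k) j w, funext fun i => ?_⟩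
      rcases eq_or_ne i j with rfl | hne
      · simp [hξ, hw]
      · simp [hξ, Pi.mulSingle_eq_of_ne hne, Function.update_of_ne hne]
    let I : Ideal ↥R :=
      { carrier := {f | ∃ h : ξ * (f : Fin s → PowerSeries k) ∈ R, (⟨_, h⟩ : ↥R) ∈ J}
        zero_mem' := by
          have h0 : ξ * ((0 : ↥R) : Fin s → PowerSeries k) ∈ R := by simp
          refine ⟨h0, ?_⟩
          convert J.zero_mem using 1
          exact Subtype.ext (by simp)
        add_mem' := by
          rintro f g ⟨hf, hfJ⟩ ⟨hg, hgJ⟩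
          have e : ξ * ((f + g : ↥R) : Fin s → PowerSeries k) = ((⟨_, hf⟩ + ⟨_, hg⟩ : ↥R) : Fin s → PowerSeries k) := by
            simp [mul_add]
          refine ⟨e ▸ ((⟨_, hf⟩ + ⟨_, hg⟩ : ↥R)).2, ?_⟩
          convert J.add_mem hfJ hgJ using 1
          exact Subtype.ext e
        smul_mem' := by
          rintro r f ⟨hf, hfJ⟩
          have e : ξ * ((r • f : ↥R) : Fin s → PowerSeries k) = ((r * ⟨_, hf⟩ : ↥R) : Fin s → PowerSeries k) := by
            simp [mul_left_comm]
          refine ⟨e ▸ ((r * ⟨_, hf⟩ : ↥R)).2, ?_⟩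
          convert J.mul_mem_left r hfJ using 1
          exact Subtype.ext e }
    have himg : img R J = (img R I).map (LinearMap.mulLeft k ξ) := by
      ext x
      rw [mem_img, Submodule.mem_map]
      constructor
      · rintro ⟨hx, hxJ⟩
        obtain ⟨g, hg⟩ := hdvd _ hxJ
        have hg' : x = ξ * g := hg
        subst hg'
        exact ⟨g, (mem_img R).2 ⟨hgR g ⟨hx, hxJ⟩, hx, hxJ⟩, rfl⟩
      · rintro ⟨f, hf, rfl⟩
        exact ((mem_img R).1 hf).2
    obtain ⟨hfV, hrkV⟩ := finite_and_finrank_quot_img R J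
    have hIfin : Module.Finite k (↥R ⧸ I) := by
      let e : (↥R ⧸ I) ≃ₗ[k] (↥R ⧸ I.restrictScalars k) := (Submodule.Quotient.restrictScalarsEquiv k I).symm
      let jj : (↥R ⧸ I.restrictScalars k) →ₗ[k] ((Fin s → PowerSeries k) ⧸ img R J) :=
        Submodule.mapQ _ _ ((LinearMap.mulLeft k ξ).comp R.val.toLinearMap)
          fun x hx => (mem_img R).2 hx
      refine Module.Finite.of_injective (jj.comp e.toLinearMap) (((injective_iff_map_eq_zero jj).2 ?_).comp e.injective)
      intro x hx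
      obtain ⟨x, rfl⟩ := Submodule.Quotient.mk_surjective _ x
      rw [Submodule.mapQ_apply, Submodule.Quotient.mk_eq_zero] at hx
      rw [Submodule.Quotient.mk_eq_zero]
      exact (mem_img R).1 hx
    obtain ⟨hfI', hrkI⟩ := finite_and_finrank_quot_img R I
    obtain ⟨-, hrkW⟩ := finrank_quot_map_mulSingle j (img R I)
    refine ⟨I, ⟨hIfin, ?_, map_branch_eq R I a ?_ ?_⟩, ?_⟩
    · rw [← himg, hrkV, hrkI] at hrkW
      omega
    · rintro f ⟨hf, hfJ⟩ i
      exact (hord _ i 0).1 (h1 _ hfJ i)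
    · intro i
      obtain ⟨x, hx, hxo⟩ := h2 i
      obtain ⟨g, hg⟩ := hdvd x hx
      have hmem : ξ * g ∈ R := hg ▸ x.2
      have hJ : (⟨_, hmem⟩ : ↥R) ∈ J := by
        have e : (⟨_, hmem⟩ : ↥R) = x := Subtype.ext hg.symm
        rw [e]; exact hx
      refine ⟨⟨g, hgR g ⟨hmem, hJ⟩⟩, ⟨hmem, hJ⟩, ?_⟩
      show (g i).order = _
      rw [hg, Pi.mul_apply, PowerSeries.order_mul] at hxo
      rcases eq_or_ne i j with rfl | hne
      · simp only [hξ, Pi.mulSingle_eq_same, PowerSeries.order_X, Function.update_self, Nat.cast_add,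
          Nat.cast_one] at hxo
        rw [add_comm (1 : ℕ∞)] at hxo
        exact WithTop.add_right_cancel WithTop.one_ne_top hxo
      · simpa [hξ, Pi.mulSingle_eq_of_ne hne, Function.update_of_ne hne] using hxo
    · ext x
      constructor
      · rintro ⟨x, hx, rfl⟩
        obtain ⟨g, hg⟩ := hdvd x hx
        have hmem : ξ * g ∈ R := hg ▸ x.2
        have hJ : (⟨_, hmem⟩ : ↥R) ∈ J := by
          have e : (⟨_, hmem⟩ : ↥R) = x := Subtype.ext hg.symm
          rw [e]; exact hx
        exact ⟨g, ⟨⟨g, hgR g ⟨hmem, hJ⟩⟩, ⟨hmem, hJ⟩, rfl⟩, hg.symm⟩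
      · rintro ⟨_, ⟨f, ⟨hf, hfJ⟩, rfl⟩, rfl⟩
        exact ⟨_, hfJ, rfl⟩

end Shift

end Groth.Agent.HZLib29
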