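import Mathlib.RingTheory.Spectrum.Prime.FreeLocus
import Mathlib.RingTheory.Artinian.Module
import Mathlib.RingTheory.Artinian.Ring
import Mathlib.RingTheory.Nilpotent.Lemmas
import Mathlib.LinearAlgebra.Dual.Lemmas

/-! # Products of `d` nilpotents in a projective algebra of rank `d` over a reduced ring -/

set_option autoImplicit false

open TensorProduct

namespace Groth.Agent.HZLib29

universe u

theorem nilradical_pow_finrank_eq_bot (K : Type u) [Field K] (T : Type u) [CommRing T] [Algebra K T]
    [Module.Finite K T] : nilradical T ^ Module.finrank K T = ⊥ := by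
  haveI : IsArtinianRing T := IsArtinianRing.of_finite K T
  obtain ⟨N, hN⟩ := IsArtinianRing.isNilpotent_nilradical (R := T)
  set n := nilradical T
  have key : ∀ i : ℕ, n ^ i = ⊥ ∨ Module.finrank K ↥((n ^ i).restrictScalars K) + i ≤ Module.finrank K T := by
    intro i
    induction i with
    | zero => exact Or.inr (by simpa using Submodule.finrank_le ((n ^ 0).restrictScalars K))
    | succ i ih =>
      rcases ih with h | h
      · exact Or.inl (le_bot_iff.1 (h ▸ Ideal.pow_le_pow_right i.le_succ))
      · by_cases he : n ^ (i + 1) = n ^ i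
        · left
          have h2 : ∀ m, n ^ (i + m) = n ^ i := by
            intro m
            induction m with
            | zero => rfl
            | succ m hm => rw [← add_assoc, pow_succ, hm, ← pow_succ, he]
          rw [he, ← h2 N, pow_add, hN, mul_zero]
          rfl
        · right
          have hlt : (n ^ (i + 1)).restrictScalars K < (n ^ i).restrictScalars K :=
            lt_of_le_of_ne (Ideal.pow_le_pow_right i.le_succ) fun e => he (Submodule.restrictScalars_injective K _ _ e)
          have := Submodule.finrank_lt_finrank_of_lt hlt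
          omega
  rcases key (Module.finrank K T) with h | h
  · exact h
  · have h0 : Module.finrank K ↥((n ^ Module.finrank K T).restrictScalars K) = 0 := by omega
    exact (Submodule.restrictScalars_eq_bot_iff K T T).1 (Submodule.finrank_eq_zero.1 h0)

/-- in a projective algebra of rank `d` over a reduced ring, a product of `d` nilpotents vanishes -/
theorem nilradical_pow_eq_bot_of_rank (A : Type u) [CommRing A] [IsReduced A] (B : Type u) [CommRing B]
    [Algebra A B] [Module.Finite A B] [Module.Projective A B] (d : ℕ)
    (hrank : ∀ p : PrimeSpectrum A, Module.rankAtStalk (R := A) B p = d) : nilradical B ^ d = ⊥ := by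
  rw [eq_bot_iff]
  intro b hb
  rw [Submodule.mem_bot, ← Module.eval_apply_eq_zero_iff A b]
  ext f
  simp only [Module.Dual.eval_apply, LinearMap.zero_apply]
  refine (isNilpotent_iff_eq_zero.1 (?_ : IsNilpotent (f b)))
  rw [nilpotent_iff_mem_prime]
  intro p hp
  let K := p.ResidueField
  let ψ : B →ₐ[A] K ⊗[A] B := Algebra.TensorProduct.includeRight
  have hd : Module.finrank K (K ⊗[A] B) = d := by
    rw [← hrank ⟨p, hp⟩, Module.rankAtStalk_eq]
  have hψ : ψ b = 0 := by
    have h1 : ψ b ∈ (nilradical B ^ d).map ψ := Ideal.mem_map_of_mem ψ hb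
    have h2 : (nilradical B).map ψ ≤ nilradical (K ⊗[A] B) :=
      Ideal.map_le_iff_le_comap.2 fun x hx => (mem_nilradical.1 hx).map ψ
    rw [Ideal.map_pow] at h1
    have h3 := Ideal.pow_right_mono h2 d h1
    rw [← hd, nilradical_pow_finrank_eq_bot K (K ⊗[A] B)] at h3
    exact h3
  have h4 := congrArg ((TensorProduct.rid A K).toLinearMap.comp (f.lTensor K)) hψ
  simp only [ψ, Algebra.TensorProduct.includeRight_apply, LinearMap.comp_apply, LinearMap.lTensor_tmul,
    map_zero, LinearEquiv.coe_coe, TensorProduct.rid_tmul] at h4
  rw [Algebra.smul_def, mul_one] at h4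
  exact Ideal.algebraMap_residueField_eq_zero.1 h4

end Groth.Agent.HZLib29
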