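import Mathlib.RingTheory.Spectrum.Prime.Module
import Mathlib.RingTheory.Spectrum.Prime.Noetherian
import Mathlib.RingTheory.LocalRing.Module
import Mathlib.LinearAlgebra.TensorProduct.RightExactness
import Mathlib.LinearAlgebra.TensorProduct.Pi
import Mathlib.RingTheory.Finiteness.Cardinality
import Mathlib.Topology.Constructible

/-! # Semicontinuity of fibre dimension and of the rank of a family of vectors -/

set_option autoImplicit false

open TensorProduct

namespace Groth.Agent.HZLib29

universe u

variable {A : Type u} [CommRing A]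

theorem span_one_tmul (K : Type u) [CommRing K] [Algebra A K] (M : Type u) [AddCommGroup M] [Module A M]
    (T : Set M) (hT : Submodule.span A T = ⊤) :
    Submodule.span K ((fun x => (1 : K) ⊗ₜ[A] x) '' T) = ⊤ := by
  rw [eq_top_iff]
  rintro z -
  induction z using TensorProduct.induction_on with
  | zero => exact zero_mem _
  | add a b ha hb => exact add_mem ha hb
  | tmul c x =>
    have hx : x ∈ Submodule.span A T := hT ▸ Submodule.mem_top
    have h1 : (1 : K) ⊗ₜ[A] x ∈ Submodule.span K ((fun x => (1 : K) ⊗ₜ[A] x) '' T) := by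
      induction hx using Submodule.span_induction with
      | mem x hx => exact Submodule.subset_span ⟨x, hx, rfl⟩
      | zero => rw [tmul_zero]; exact zero_mem _
      | add a b _ _ ha hb => rw [tmul_add]; exact add_mem ha hb
      | smul a x _ hx => rw [tmul_smul]; exact Submodule.smul_of_tower_mem _ a hx
    rw [show c ⊗ₜ[A] x = c • ((1 : K) ⊗ₜ[A] x) by rw [smul_tmul', smul_eq_mul, mul_one]]
    exact Submodule.smul_mem _ c h1

/-- the kernel of `K ⊗ M → K ⊗ M/N` is spanned by the image of `N` -/
theorem ker_baseChange_mkQ (K : Type u) [CommRing K] [Algebra A K] (M : Type u) [AddCommGroup M] [Module A M]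
    (T : Set M) :
    LinearMap.ker ((Submodule.span A T).mkQ.baseChange K) =
      Submodule.span K ((fun x => (1 : K) ⊗ₜ[A] x) '' T) := by
  set N := Submodule.span A T
  refine le_antisymm (fun z hz => ?_) (Submodule.span_le.2 ?_)
  · have hex : Function.Exact N.subtype N.mkQ := LinearMap.exact_subtype_mkQ N
    have := (lTensor_exact K hex N.mkQ_surjective z).1 (by rw [← LinearMap.baseChange_eq_ltensor]; exact hz)
    obtain ⟨w, rfl⟩ := this
    have hw : w ∈ (Submodule.span K ((fun x => (1 : K) ⊗ₜ[A] x) '' (Subtype.val ⁻¹' T : Set ↥N))) := by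
      rw [span_one_tmul K ↥N _ Submodule.span_span_coe_preimage]; exact Submodule.mem_top
    have hw' := Submodule.mem_map_of_mem (f := N.subtype.baseChange K) hw
    rw [Submodule.map_span] at hw'
    rw [← LinearMap.baseChange_eq_ltensor]
    refine Submodule.span_mono ?_ hw'
    rintro _ ⟨_, ⟨x, hx, rfl⟩, rfl⟩
    exact ⟨x, hx, rfl⟩
  · rintro _ ⟨x, hx, rfl⟩
    rw [SetLike.mem_coe, LinearMap.mem_ker, LinearMap.baseChange_tmul]
    rw [show N.mkQ x = 0 from (Submodule.Quotient.mk_eq_zero N).2 (Submodule.subset_span hx), tmul_zero]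

variable (M : Type u) [AddCommGroup M] [Module A M] [Module.Finite A M]

/-- the dimension of the fibre of a finite module is upper semicontinuous -/
theorem isOpen_setOf_finrank_fibre_le (m : ℕ) :
    IsOpen {p : PrimeSpectrum A | Module.finrank p.asIdeal.ResidueField (p.asIdeal.ResidueField ⊗[A] M) ≤ m} := by
  classical
  rw [isOpen_iff_mem_nhds]
  intro p hp
  let K := p.asIdeal.ResidueField
  have hsp := span_one_tmul (A := A) K M Set.univ Submodule.span_univ
  rw [Set.image_univ] at hsp
  obtain ⟨b, hb, hbs, hbi⟩ := exists_linearIndependent K (Set.range fun x : M => (1 : K) ⊗ₜ[A] x)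
  rw [hsp] at hbs
  have hbfin : b.Finite := hbi.setFinite
  choose g hg using fun x : b => hb x.2
  haveI := hbfin.fintype
  let T : Finset M := Finset.univ.image g
  have hTcard : T.card ≤ m := by
    refine Finset.card_image_le.trans (le_trans (le_of_eq ?_) hp)
    rw [Finset.card_univ]
    exact (Module.finrank_eq_card_basis (Module.Basis.mk hbi (by rw [Subtype.range_coe]; exact hbs.ge))).symm
  set N := Submodule.span A (T : Set M)
  have hp' : p ∉ Module.support A (M ⧸ N) := by
    rw [Module.mem_support_iff_nontrivial_residueField_tensorProduct, not_nontrivial_iff_subsingleton]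
    refine ⟨fun x y => ?_⟩
    have hker : LinearMap.ker (N.mkQ.baseChange K) = ⊤ := by
      rw [ker_baseChange_mkQ, eq_top_iff, ← hbs]
      refine Submodule.span_mono fun x hx => ⟨g ⟨x, hx⟩, Finset.mem_coe.2 (Finset.mem_image_of_mem g (Finset.mem_univ _)), hg ⟨x, hx⟩⟩
    have hsurj : Function.Surjective (N.mkQ.baseChange K) := by
      rw [LinearMap.baseChange_eq_ltensor]
      exact LinearMap.lTensor_surjective K N.mkQ_surjective
    obtain ⟨x, rfl⟩ := hsurj x
    obtain ⟨y, rfl⟩ := hsurj y
    rw [(LinearMap.mem_ker).1 (hker ▸ Submodule.mem_top : x ∈ _), (LinearMap.mem_ker).1 (hker ▸ Submodule.mem_top : y ∈ _)]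
  refine Filter.mem_of_superset ((Module.isClosed_support (R := A) (M := M ⧸ N)).isOpen_compl.mem_nhds hp') fun q hq => ?_
  rw [Set.mem_compl_iff, Module.mem_support_iff_nontrivial_residueField_tensorProduct,
    not_nontrivial_iff_subsingleton] at hq
  have hker : LinearMap.ker (N.mkQ.baseChange q.asIdeal.ResidueField) = ⊤ :=
    eq_top_iff.2 fun x _ => LinearMap.mem_ker.2 (Subsingleton.elim _ _)
  rw [ker_baseChange_mkQ, ← Finset.coe_image] at hker
  show Module.finrank _ _ ≤ m
  rw [← finrank_top q.asIdeal.ResidueField, ← hker]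
  exact (finrank_span_finset_le_card _).trans (Finset.card_image_le.trans hTcard)

theorem isConstructible_setOf_finrank_fibre_eq [IsNoetherianRing A] (m : ℕ) :
    Topology.IsConstructible {p : PrimeSpectrum A | Module.finrank p.asIdeal.ResidueField (p.asIdeal.ResidueField ⊗[A] M) = m} := by
  have h : ∀ m, Topology.IsConstructible {p : PrimeSpectrum A | Module.finrank p.asIdeal.ResidueField (p.asIdeal.ResidueField ⊗[A] M) ≤ m} :=
    fun m => (TopologicalSpace.NoetherianSpace.isCompact _).isConstructible (isOpen_setOf_finrank_fibre_le M m)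
  cases m with
  | zero => simpa [Nat.le_zero] using h 0
  | succ m =>
    convert (h (m + 1)).sdiff (h m) using 1
    ext p
    simp only [Set.mem_setOf_eq, Set.mem_sdiff, not_le]
    omega

/-- the rank of a family of vectors at a point, plus the fibre dimension of the cokernel, is constant -/
theorem finrank_span_add_finrank_fibre_quot (K : Type u) [Field K] [Algebra A K] {ι : Type u} [Fintype ι] [DecidableEq ι]
    (T : Set (ι → A)) :
    Module.finrank K (Submodule.span K ((fun v => (algebraMap A K) ∘ v) '' T)) +
      Module.finrank K (K ⊗[A] ((ι → A) ⧸ Submodule.span A T)) = Fintype.card ι := by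
  let f := (Submodule.span A T).mkQ.baseChange K
  have hsurj : Function.Surjective f := by
    simp only [f, LinearMap.baseChange_eq_ltensor]
    exact LinearMap.lTensor_surjective K (Submodule.span A T).mkQ_surjective
  let e := TensorProduct.piScalarRight A K K ι
  have h := LinearMap.finrank_range_add_finrank_ker f
  rw [LinearMap.range_eq_top.2 hsurj, finrank_top, ker_baseChange_mkQ, e.finrank_eq, Module.finrank_fintype_fun_eq_card] at h
  rw [← h, add_comm, (Submodule.equivMapOfInjective _ e.injective _).finrank_eq, Submodule.map_span, ← Set.image_comp]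
  rw [show ((e.toLinearMap : _ → (ι → K)) ∘ fun x : ι → A => (1 : K) ⊗ₜ[A] x) = fun v => (algebraMap A K) ∘ v by
    funext v i; simp [e, Algebra.smul_def]]

end Groth.Agent.HZLib29
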